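import Cfsg.Agent.Lib.ToddCox.Fi23C3.Data0
set_option autoImplicit false
set_option maxRecDepth 100000
namespace Cfsg.Agent.Lib.ToddCox.Fi23C3
def eT_0_2 (j : ℕ) : ℕ := bif Nat.blt j 1 then E_0 else E_1
def eT_3_5 (j : ℕ) : ℕ := bif Nat.blt j 4 then E_3 else E_4
def eT_2_5 (j : ℕ) : ℕ := bif Nat.blt j 3 then E_2 else (eT_3_5 j)
def eT_0_5 (j : ℕ) : ℕ := bif Nat.blt j 2 then (eT_0_2 j) else (eT_2_5 j)
def eT_5_7 (j : ℕ) : ℕ := bif Nat.blt j 6 then E_5 else E_6
def eT_8_10 (j : ℕ) : ℕ := bif Nat.blt j 9 then E_8 else E_9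
def eT_7_10 (j : ℕ) : ℕ := bif Nat.blt j 8 then E_7 else (eT_8_10 j)
def eT_5_10 (j : ℕ) : ℕ := bif Nat.blt j 7 then (eT_5_7 j) else (eT_7_10 j)
def eT_0_10 (j : ℕ) : ℕ := bif Nat.blt j 5 then (eT_0_5 j) else (eT_5_10 j)
def eT_10_12 (j : ℕ) : ℕ := bif Nat.blt j 11 then E_10 else E_11
def eT_13_15 (j : ℕ) : ℕ := bif Nat.blt j 14 then E_13 else E_14
def eT_12_15 (j : ℕ) : ℕ := bif Nat.blt j 13 then E_12 else (eT_13_15 j)
def eT_10_15 (j : ℕ) : ℕ := bif Nat.blt j 12 then (eT_10_12 j) else (eT_12_15 j)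
def eT_16_18 (j : ℕ) : ℕ := bif Nat.blt j 17 then E_16 else E_17
def eT_15_18 (j : ℕ) : ℕ := bif Nat.blt j 16 then E_15 else (eT_16_18 j)
def eT_19_21 (j : ℕ) : ℕ := bif Nat.blt j 20 then E_19 else E_20
def eT_18_21 (j : ℕ) : ℕ := bif Nat.blt j 19 then E_18 else (eT_19_21 j)
def eT_15_21 (j : ℕ) : ℕ := bif Nat.blt j 18 then (eT_15_18 j) else (eT_18_21 j)
def eT_10_21 (j : ℕ) : ℕ := bif Nat.blt j 15 then (eT_10_15 j) else (eT_15_21 j)
def eT_0_21 (j : ℕ) : ℕ := bif Nat.blt j 10 then (eT_0_10 j) else (eT_10_21 j)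
def eT (j : ℕ) : ℕ := (eT_0_21 j)
noncomputable def chunkF (h : ℕ) : ℕ := Nat.rec (motive := fun _ => ℕ) (eT 0) (fun n _ => eT (Nat.succ n)) h
noncomputable def Eo (r : ℕ) : ℕ := Nat.land (Nat.shiftRight (chunkF (Nat.shiftRight r 8)) (Nat.mul (Nat.land r 255) 54)) 18014398509481983
def invT : ℕ := 0xffef7cefae78df6d74cf2c70beeb6caeaa689e69648e28607de75c6da6585d65544d24503ce34c2ca2481c61440c2040
def inv (y : ℕ) : ℕ := invOf invT y
def Wt_0_2 (j : ℕ) : List ℕ := bif Nat.blt j 1 then [nat_lit 1, nat_lit 8, nat_lit 1, nat_lit 8] else [nat_lit 2, nat_lit 8, nat_lit 2, nat_lit 8]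
def Wt_3_5 (j : ℕ) : List ℕ := bif Nat.blt j 4 then [nat_lit 5, nat_lit 8, nat_lit 5, nat_lit 8] else [nat_lit 6, nat_lit 8, nat_lit 6, nat_lit 8]
def Wt_2_5 (j : ℕ) : List ℕ := bif Nat.blt j 3 then [nat_lit 4, nat_lit 8, nat_lit 4, nat_lit 8] else (Wt_3_5 j)
def Wt_0_5 (j : ℕ) : List ℕ := bif Nat.blt j 2 then (Wt_0_2 j) else (Wt_2_5 j)
def Wt_5_7 (j : ℕ) : List ℕ := bif Nat.blt j 6 then [nat_lit 1, nat_lit 3, nat_lit 1, nat_lit 3] else [nat_lit 5, nat_lit 3, nat_lit 5, nat_lit 3]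
def Wt_8_10 (j : ℕ) : List ℕ := bif Nat.blt j 9 then [nat_lit 8, nat_lit 3, nat_lit 8, nat_lit 3, nat_lit 8, nat_lit 3] else [nat_lit 3, nat_lit 2, nat_lit 3, nat_lit 2, nat_lit 3, nat_lit 2]
def Wt_7_10 (j : ℕ) : List ℕ := bif Nat.blt j 8 then [nat_lit 6, nat_lit 3, nat_lit 6, nat_lit 3] else (Wt_8_10 j)
def Wt_5_10 (j : ℕ) : List ℕ := bif Nat.blt j 7 then (Wt_5_7 j) else (Wt_7_10 j)
def Wt_0_10 (j : ℕ) : List ℕ := bif Nat.blt j 5 then (Wt_0_5 j) else (Wt_5_10 j)
def Wt_10_12 (j : ℕ) : List ℕ := bif Nat.blt j 11 then [nat_lit 5, nat_lit 2, nat_lit 5, nat_lit 2] else [nat_lit 6, nat_lit 2, nat_lit 6, nat_lit 2]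
def Wt_13_15 (j : ℕ) : List ℕ := bif Nat.blt j 14 then [nat_lit 1, nat_lit 4, nat_lit 1, nat_lit 4] else [nat_lit 3, nat_lit 4, nat_lit 3, nat_lit 4, nat_lit 3, nat_lit 4]
def Wt_12_15 (j : ℕ) : List ℕ := bif Nat.blt j 13 then [nat_lit 8, nat_lit 2, nat_lit 8, nat_lit 2] else (Wt_13_15 j)
def Wt_10_15 (j : ℕ) : List ℕ := bif Nat.blt j 12 then (Wt_10_12 j) else (Wt_12_15 j)
def Wt_16_18 (j : ℕ) : List ℕ := bif Nat.blt j 17 then [nat_lit 8, nat_lit 4, nat_lit 8, nat_lit 4] else [nat_lit 2, nat_lit 1, nat_lit 2, nat_lit 1, nat_lit 2, nat_lit 1]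
def Wt_15_18 (j : ℕ) : List ℕ := bif Nat.blt j 16 then [nat_lit 6, nat_lit 4, nat_lit 6, nat_lit 4] else (Wt_16_18 j)
def Wt_19_21 (j : ℕ) : List ℕ := bif Nat.blt j 20 then [nat_lit 5, nat_lit 1, nat_lit 5, nat_lit 1] else [nat_lit 6, nat_lit 1, nat_lit 6, nat_lit 1]
def Wt_18_21 (j : ℕ) : List ℕ := bif Nat.blt j 19 then [nat_lit 3, nat_lit 1, nat_lit 3, nat_lit 1] else (Wt_19_21 j)
def Wt_15_21 (j : ℕ) : List ℕ := bif Nat.blt j 18 then (Wt_15_18 j) else (Wt_18_21 j)
def Wt_10_21 (j : ℕ) : List ℕ := bif Nat.blt j 15 then (Wt_10_15 j) else (Wt_15_21 j)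
def Wt_0_21 (j : ℕ) : List ℕ := bif Nat.blt j 10 then (Wt_0_10 j) else (Wt_10_21 j)
def Wt_21_23 (j : ℕ) : List ℕ := bif Nat.blt j 22 then [nat_lit 8, nat_lit 1, nat_lit 8, nat_lit 1] else [nat_lit 2, nat_lit 4, nat_lit 2, nat_lit 4]
def Wt_24_26 (j : ℕ) : List ℕ := bif Nat.blt j 25 then [nat_lit 3, nat_lit 5, nat_lit 3, nat_lit 5] else [nat_lit 4, nat_lit 5, nat_lit 4, nat_lit 5, nat_lit 4, nat_lit 5]
def Wt_23_26 (j : ℕ) : List ℕ := bif Nat.blt j 24 then [nat_lit 1, nat_lit 5, nat_lit 1, nat_lit 5] else (Wt_24_26 j)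
def Wt_21_26 (j : ℕ) : List ℕ := bif Nat.blt j 23 then (Wt_21_23 j) else (Wt_23_26 j)
def Wt_26_28 (j : ℕ) : List ℕ := bif Nat.blt j 27 then [nat_lit 8, nat_lit 5, nat_lit 8, nat_lit 5] else [nat_lit 2, nat_lit 3, nat_lit 2, nat_lit 3, nat_lit 2, nat_lit 3]
def Wt_29_31 (j : ℕ) : List ℕ := bif Nat.blt j 30 then [nat_lit 2, nat_lit 5, nat_lit 2, nat_lit 5] else [nat_lit 1, nat_lit 6, nat_lit 1, nat_lit 6]
def Wt_28_31 (j : ℕ) : List ℕ := bif Nat.blt j 29 then [nat_lit 4, nat_lit 3, nat_lit 4, nat_lit 3, nat_lit 4, nat_lit 3] else (Wt_29_31 j)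
def Wt_26_31 (j : ℕ) : List ℕ := bif Nat.blt j 28 then (Wt_26_28 j) else (Wt_28_31 j)
def Wt_21_31 (j : ℕ) : List ℕ := bif Nat.blt j 26 then (Wt_21_26 j) else (Wt_26_31 j)
def Wt_31_33 (j : ℕ) : List ℕ := bif Nat.blt j 32 then [nat_lit 3, nat_lit 6, nat_lit 3, nat_lit 6] else [nat_lit 4, nat_lit 6, nat_lit 4, nat_lit 6]
def Wt_34_36 (j : ℕ) : List ℕ := bif Nat.blt j 35 then [nat_lit 8, nat_lit 6, nat_lit 8, nat_lit 6] else [nat_lit 3, nat_lit 8, nat_lit 3, nat_lit 8, nat_lit 3, nat_lit 8]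
def Wt_33_36 (j : ℕ) : List ℕ := bif Nat.blt j 34 then [nat_lit 5, nat_lit 6, nat_lit 5, nat_lit 6, nat_lit 5, nat_lit 6] else (Wt_34_36 j)
def Wt_31_36 (j : ℕ) : List ℕ := bif Nat.blt j 33 then (Wt_31_33 j) else (Wt_33_36 j)
def Wt_37_39 (j : ℕ) : List ℕ := bif Nat.blt j 38 then [nat_lit 1, nat_lit 2, nat_lit 1, nat_lit 2, nat_lit 1, nat_lit 2] else [nat_lit 4, nat_lit 2, nat_lit 4, nat_lit 2]
def Wt_36_39 (j : ℕ) : List ℕ := bif Nat.blt j 37 then [nat_lit 2, nat_lit 6, nat_lit 2, nat_lit 6] else (Wt_37_39 j)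
def Wt_40_42 (j : ℕ) : List ℕ := bif Nat.blt j 41 then [nat_lit 6, nat_lit 5, nat_lit 6, nat_lit 5, nat_lit 6, nat_lit 5] else [nat_lit 4, nat_lit 1, nat_lit 4, nat_lit 1]
def Wt_39_42 (j : ℕ) : List ℕ := bif Nat.blt j 40 then [nat_lit 5, nat_lit 4, nat_lit 5, nat_lit 4, nat_lit 5, nat_lit 4] else (Wt_40_42 j)
def Wt_36_42 (j : ℕ) : List ℕ := bif Nat.blt j 39 then (Wt_36_39 j) else (Wt_39_42 j)
def Wt_31_42 (j : ℕ) : List ℕ := bif Nat.blt j 36 then (Wt_31_36 j) else (Wt_36_42 j)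
def Wt_21_42 (j : ℕ) : List ℕ := bif Nat.blt j 31 then (Wt_21_31 j) else (Wt_31_42 j)
def Wt_0_42 (j : ℕ) : List ℕ := bif Nat.blt j 21 then (Wt_0_21 j) else (Wt_21_42 j)
def Wt (j : ℕ) : List ℕ := (Wt_0_42 j)
def W (j : ℕ) : List ℕ := bif Nat.blt j 42 then Wt j else []
theorem W_ge (j : ℕ) (h : 42 ≤ j) : W j = [] := by
  unfold W
  rw [blt_false_of_le h]
  rfl
def Hl : List ℕ := [nat_lit 1, nat_lit 2, nat_lit 3, nat_lit 4, nat_lit 5, nat_lit 6]
def isH (y : ℕ) : Bool := List.elem y Hl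
def Rb : List (List ℕ) := [[nat_lit 1, nat_lit 1],
  [nat_lit 2, nat_lit 1, nat_lit 2, nat_lit 1, nat_lit 2, nat_lit 1],
  [nat_lit 3, nat_lit 1, nat_lit 3, nat_lit 1],
  [nat_lit 4, nat_lit 1, nat_lit 4, nat_lit 1],
  [nat_lit 5, nat_lit 1, nat_lit 5, nat_lit 1],
  [nat_lit 6, nat_lit 1, nat_lit 6, nat_lit 1],
  [nat_lit 8, nat_lit 1, nat_lit 8, nat_lit 1],
  [nat_lit 2, nat_lit 2],
  [nat_lit 3, nat_lit 2, nat_lit 3, nat_lit 2, nat_lit 3, nat_lit 2],
  [nat_lit 4, nat_lit 2, nat_lit 4, nat_lit 2],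
  [nat_lit 5, nat_lit 2, nat_lit 5, nat_lit 2],
  [nat_lit 6, nat_lit 2, nat_lit 6, nat_lit 2],
  [nat_lit 8, nat_lit 2, nat_lit 8, nat_lit 2],
  [nat_lit 3, nat_lit 3],
  [nat_lit 4, nat_lit 3, nat_lit 4, nat_lit 3, nat_lit 4, nat_lit 3],
  [nat_lit 5, nat_lit 3, nat_lit 5, nat_lit 3],
  [nat_lit 6, nat_lit 3, nat_lit 6, nat_lit 3],
  [nat_lit 8, nat_lit 3, nat_lit 8, nat_lit 3, nat_lit 8, nat_lit 3],
  [nat_lit 4, nat_lit 4],
  [nat_lit 5, nat_lit 4, nat_lit 5, nat_lit 4, nat_lit 5, nat_lit 4],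
  [nat_lit 6, nat_lit 4, nat_lit 6, nat_lit 4],
  [nat_lit 8, nat_lit 4, nat_lit 8, nat_lit 4],
  [nat_lit 5, nat_lit 5],
  [nat_lit 6, nat_lit 5, nat_lit 6, nat_lit 5, nat_lit 6, nat_lit 5],
  [nat_lit 8, nat_lit 5, nat_lit 8, nat_lit 5],
  [nat_lit 6, nat_lit 6],
  [nat_lit 8, nat_lit 6, nat_lit 8, nat_lit 6],
  [nat_lit 8, nat_lit 8],
  []]
def spT (j : ℕ) : ℕ := nat_lit 0x20060000202e0000202600002012000000020000001600000022000020340000002e00000028000000200000000a000000140000201c0000001000002030000000260000001e00000008000000120000200c0000200a0000200800002004000020020000202a000020280000001c000000060000201800002016000020140000201000002022000020200000201e0000000400000034000000300000002a000000180000000c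
def sp (j : ℕ) : ℕ := Nat.land (Nat.shiftRight (spT (Nat.shiftRight j 6)) (Nat.mul (Nat.land j 63) 32)) 4294967295
theorem Eo_lt (r : ℕ) : Eo r < 18014398509481984 := land54_lt _
def cT_0_2 (j : ℕ) : ℕ := bif Nat.blt j 1 then nat_lit 0x7f00007e00007d00007c00007b00007a00007900007800007700007600007500007400007300007200007100007000006f00006e00006d00006c00006b00006a00006900006800006700006600006500006400006300006200006100006000005f00005e00005d00005c00005b00005a00005900005800005700005600005500005400005300005200005100005000004f00004e00004d00004c00004b00004a00004900004800004700004600004500004400004300004200004100004000003f00003e00003d00003c00003b00003a00003900003800003700003600003500003400003300003200003100003000002f00002e00002d00002c00002b00002a00002900002800002700002600002500002400002300002200002100002000001f00001e00001d00001c00001b00001a00001900001800001700001600001500001400001300001200001100001000000f00000e00000d00000c00000b00000a000009000008000007000006000005000004000003000002000001000000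 else nat_lit 0xff0000fe0000fd0000fc0000fb0000fa0000f90000f80000f70000f60000f50000f40000f30000f20000f10000f00000ef0000ee0000ed0000ec0000eb0000ea0000e90000e80000e70000e60000e50000e40000e30000e20000e10000e00000df0000de0000dd0000dc0000db0000da0000d90000d80000d70000d60000d50000d40000d30000d20000d10000d00000cf0000ce0000cd0000cc0000cb0000ca0000c90000c80000c70000c60000c50000c40000c30000c20000c10000c00000bf0000be0000bd0000bc0000bb0000ba0000b90000b80000b70000b60000b50000b40000b30000b20000b10000b00000af0000ae0000ad0000ac0000ab0000aa0000a90000a80000a70000a60000a50000a40000a30000a20000a10000a000009f00009e00009d00009c00009b00009a00009900009800009700009600009500009400009300009200009100009000008f00008e00008d00008c00008b00008a000089000088000087000086000085000084000083000082000081000080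
def cT_3_5 (j : ℕ) : ℕ := bif Nat.blt j 4 then nat_lit 0x1ff0001fe0001fd0001fc0001fb0001fa0001f90001f80001f70001f60001f50001f40001f30001f20001f10001f00001ef0001ee0001ed0001ec0001eb0001ea0001e90001e80001e70001e60001e50001e40001e30001e20001e10001e00001df0001de0001dd0001dc0001db0001da0001d90001d80001d70001d60001d50001d40001d30001d20001d10001d00001cf0001ce0001cd0001cc0001cb0001ca0001c90001c80001c70001c60001c50001c40001c30001c20001c10001c00001bf0001be0001bd0001bc0001bb0001ba0001b90001b80001b70001b60001b50001b40001b30001b20001b10001b00001af0001ae0001ad0001ac0001ab0001aa0001a90001a80001a70001a60001a50001a40001a30001a20001a10001a000019f00019e00019d00019c00019b00019a00019900019800019700019600019500019400019300019200019100019000018f00018e00018d00018c00018b00018a000189000188000187000186000185000184000183000182000181000180 else nat_lit 0x23f00023e00023d00023c00023b00023a00023900023800023700023600023500023400023300023200023100023000022f00022e00022d00022c00022b00022a00022900022800022700022600022500022400022300022200022100022000021f00021e00021d00021c00021b00021a00021900021800021700021600021500021400021300021200021100021000020f00020e00020d00020c00020b00020a000209000208000207000206000205000204000203000202000201000200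
def cT_2_5 (j : ℕ) : ℕ := bif Nat.blt j 3 then nat_lit 0x17f00017e00017d00017c00017b00017a00017900017800017700017600017500017400017300017200017100017000016f00016e00016d00016c00016b00016a00016900016800016700016600016500016400016300016200016100016000015f00015e00015d00015c00015b00015a00015900015800015700015600015500015400015300015200015100015000014f00014e00014d00014c00014b00014a00014900014800014700014600014500014400014300014200014100014000013f00013e00013d00013c00013b00013a00013900013800013700013600013500013400013300013200013100013000012f00012e00012d00012c00012b00012a00012900012800012700012600012500012400012300012200012100012000011f00011e00011d00011c00011b00011a00011900011800011700011600011500011400011300011200011100011000010f00010e00010d00010c00010b00010a000109000108000107000106000105000104000103000102000101000100 else (cT_3_5 j)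
def cT_0_5 (j : ℕ) : ℕ := bif Nat.blt j 2 then (cT_0_2 j) else (cT_2_5 j)
def cT (j : ℕ) : ℕ := (cT_0_5 j)
noncomputable def cChunk (h : ℕ) : ℕ := Nat.rec (motive := fun _ => ℕ) (cT 0) (fun n _ => cT (Nat.succ n)) h
noncomputable def cF (i : ℕ) : ℕ := Nat.land (Nat.shiftRight (cChunk (Nat.shiftRight i 7)) (Nat.mul (Nat.land i 127) 24)) 16777215
theorem cF_lt (i : ℕ) : cF i < 16777216 := land24_lt _
theorem cF_zero : cF 0 = 0 := by decide +kernel
def nDef : ℕ := 575
def nEv : ℕ := 2688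
def nW : ℕ := 42
def N : ℕ := 576
def ys : List ℕ := [nat_lit 1, nat_lit 2, nat_lit 3, nat_lit 4, nat_lit 5, nat_lit 6, nat_lit 8]
def Js : List ℕ := [nat_lit 1, nat_lit 2, nat_lit 3, nat_lit 4, nat_lit 5, nat_lit 6, nat_lit 8]
def Jp : List ℕ := [nat_lit 1, nat_lit 2, nat_lit 3, nat_lit 4, nat_lit 5, nat_lit 6]
end Cfsg.Agent.Lib.ToddCox.Fi23C3
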